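import Cfsg.Agent.Spor.ThU.V.D0

set_option autoImplicit false
set_option maxRecDepth 100000000
set_option Elab.async false

namespace Cfsg.Agent.Spor.ThU.V

theorem gr2 : sub (ones 17199) (U.growI W1 [1, 2, 3, 4, 5, 6, 6, 5, 4, 3, 2, 1, 3, 4, 5, 6, 6, 5, 4, 3, 2, 1, 0, 3, 4, 5, 6, 6, 5, 4, 3, 2, 1] (Nat.shiftLeft 1 0)) = true := by decide +kernel

theorem cl4 : band (U.closedW W1 (ones 17199)) (sub (Nat.shiftLeft 1 0) (ones 17199)) = true := by decide +kernel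

theorem sz5 : sizeOk 15 (ones 17199) 17199 = true := by decide +kernel

theorem fx8 : U.closedW W7 (Nat.shiftLeft 1 0) = true := by decide +kernel

theorem okL : ThE.D.okL 6230 [469, 486] [[10, 12, 8, 11, 6, 4, 6, 8, 10, 13, 2, 4, 6, 0, 2, 0, 5, 7, 9, 11], [10, 8, 6, 4, 6, 8, 11, 13, 6, 4, 6, 8, 2, 4, 0, 3]] = true := by decide +kernel

theorem okS0 : ThE.D.okS 6230 0 [13, 17, 14, 8, 12, 9, 11] [[0], [2], [4], [6], [8], [10], [12]] = true := by decide +kernel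

theorem okS1 : ThE.D.okS 6230 1 [469, 486] [[11, 8, 11, 6, 4, 6, 8, 10, 2, 4, 6, 0, 2, 4, 6, 1, 9, 10], [13, 11, 8, 2, 4, 6, 0, 2, 4, 6, 8, 10, 8, 4, 6, 5, 7, 9]] = true := by decide +kernel

theorem ed10a : lall (ThE.D.okEd 6230 1 J) ed10 = true := by decide +kernel

theorem ed10b : band (lall (fun e => lall (fun y => Nat.blt y (2 * 7)) e.w) ed10) (sub M11 (edMask (U.pls 15 (2 * 7) 0) ed10)) = true := by decide +kernel

theorem gr12 : sub (ones 17199) (U.growI W9 [0, 1, 1, 0, 0, 1, 1, 0, 0, 1, 1, 0, 0, 1, 1, 0, 0, 1, 1, 0, 0, 1, 1, 0, 0, 1, 1, 0, 0, 1] M11) = true := by decide +kernel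

theorem loop1 : ThE.D.loop 6230 1 854 = true := by decide +kernel

theorem okS15 : ThE.D.okS 6230 15 [944, 949] [[11, 8, 11, 2, 4, 6, 8, 10, 4, 6, 2, 4, 6, 8, 6, 5, 7, 10, 10], [11, 13, 8, 10, 0, 2, 4, 6, 8, 0, 2, 4, 6, 4, 2, 0, 3, 10, 9, 7, 5, 3, 1, 10, 9]] = true := by decide +kernel

theorem ed14a : lall (ThE.D.okEd 6230 15 J) ed14 = true := by decide +kernel

theorem ed14b : band (lall (fun e => lall (fun y => Nat.blt y (2 * 7)) e.w) ed14) (sub M15 (edMask (U.pls 15 (2 * 7) 0) ed14)) = true := by decide +kernel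

theorem gr16 : sub (ones 17199) (U.growI W13 [0, 1, 1, 0, 0, 1, 1, 0, 0, 1, 1, 0, 0, 1, 1, 0, 0, 1, 1, 0, 0, 1, 1, 0] M15) = true := by decide +kernel

theorem loop15 : ThE.D.loop 6230 15 919 = true := by decide +kernel

theorem okS19 : ThE.D.okS 6230 19 [1307, 1310] [[8, 6, 4, 6, 8, 2, 4, 6, 4, 6, 8, 10, 8, 10, 2, 5, 7, 5, 9, 7, 5, 3, 10, 9, 7], [10, 12, 8, 4, 6, 4, 6, 2, 4, 6, 8, 10, 6, 4, 6, 3, 5, 3, 7, 9]] = true := by decide +kernel

theorem ed18a : lall (ThE.D.okEd 6230 19 J) ed18 = true := by decide +kernel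

theorem ed18b : band (lall (fun e => lall (fun y => Nat.blt y (2 * 7)) e.w) ed18) (sub M19 (edMask (U.pls 15 (2 * 7) 0) ed18)) = true := by decide +kernel

theorem gr20 : sub (ones 17199) (U.growI W17 [0, 1, 1, 0, 0, 1, 1, 0, 0, 1, 1, 0, 0, 1, 1, 0, 0, 0] M19) = true := by decide +kernel

theorem loop19 : ThE.D.loop 6230 19 1311 = true := by decide +kernel

theorem okS21 : ThE.D.okS 6230 21 [3173, 3174] [[11, 13, 8, 11, 4, 6, 8, 10, 2, 4, 6, 8, 6, 4, 6, 1, 3, 5, 7, 5, 9, 10, 9, 11], [13, 4, 6, 2, 4, 6, 0, 2, 4, 6, 8, 4, 6, 4]] = true := by decide +kernel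

theorem ed22a : lall (ThE.D.okEd 6230 21 J) ed22 = true := by decide +kernel

theorem ed22b : band (lall (fun e => lall (fun y => Nat.blt y (2 * 7)) e.w) ed22) (sub M23 (edMask (U.pls 15 (2 * 7) 0) ed22)) = true := by decide +kernel

theorem gr24 : sub (ones 17199) (U.growI W21 [0, 1, 1, 0, 0, 1, 1, 0, 0, 1, 1, 0, 0, 1, 1, 0, 0] M23) = true := by decide +kernel

theorem loop21 : ThE.D.loop 6230 21 1106 = true := by decide +kernel

theorem okS22 : ThE.D.okS 6230 22 [3287, 3288] [[10, 2, 4, 6, 8, 10, 10, 0, 2, 4, 6, 8, 4, 6, 2, 0, 5, 3, 10, 9, 7, 5, 3, 7, 5, 10, 12], [12, 0, 2, 4, 6, 8, 11, 6, 4, 6, 2, 4, 6, 8, 6, 5, 7, 5, 12, 11, 9, 7, 10]] = true := by decide +kernel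

theorem ed26a : lall (ThE.D.okEd 6230 22 J) ed26 = true := by decide +kernel

theorem ed26b : band (lall (fun e => lall (fun y => Nat.blt y (2 * 7)) e.w) ed26) (sub M27 (edMask (U.pls 15 (2 * 7) 0) ed26)) = true := by decide +kernel

theorem gr28 : sub (ones 17199) (U.growI W25 [0, 1, 1, 0, 0, 1, 1, 0, 0, 1, 1] M27) = true := by decide +kernel

theorem loop22 : ThE.D.loop 6230 22 1164 = true := by decide +kernel

theorem okS23 : ThE.D.okS 6230 23 [4111, 4112] [[8, 6, 4, 6, 8, 6, 4, 6, 2, 4, 6, 0, 2, 4, 6, 1], [2, 4, 6, 0, 2, 4, 6, 8, 6, 4, 6, 2, 4, 6, 2, 0, 3, 5, 7]] = true := by decide +kernel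

theorem ed30a : lall (ThE.D.okEd 6230 23 J) ed30 = true := by decide +kernel

theorem ed30b : band (lall (fun e => lall (fun y => Nat.blt y (2 * 7)) e.w) ed30) (sub M31 (edMask (U.pls 15 (2 * 7) 0) ed30)) = true := by decide +kernel

theorem ed32a : lall (ThE.D.okEd 6230 23 J) ed32 = true := by decide +kernel

theorem ed32b : band (lall (fun e => lall (fun y => Nat.blt y (2 * 7)) e.w) ed32) (sub M33 (edMask (U.pls 15 (2 * 7) 0) ed32)) = true := by decide +kernel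

theorem ed34a : lall (ThE.D.okEd 6230 23 J) ed34 = true := by decide +kernel

theorem ed34b : band (lall (fun e => lall (fun y => Nat.blt y (2 * 7)) e.w) ed34) (sub M35 (edMask (U.pls 15 (2 * 7) 0) ed34)) = true := by decide +kernel

theorem gr36 : sub (ones 17199) (U.growI W29 [0, 1, 0] (Nat.lor (Nat.lor M31 M33) M35)) = true := by decide +kernel

theorem loop23 : ThE.D.loop 6230 23 4113 = true := by decide +kernel

theorem okS25 : ThE.D.okS 6230 25 [6078, 6079] [[4, 6, 0, 2, 4, 6, 8, 6, 4, 6, 2, 4, 6, 8, 2, 0, 3, 5], [13, 8, 2, 4, 6, 0, 2, 4, 6, 4]] = true := by decide +kernel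

theorem ed38a : lall (ThE.D.okEd 6230 25 J) ed38 = true := by decide +kernel

theorem ed38b : band (lall (fun e => lall (fun y => Nat.blt y (2 * 7)) e.w) ed38) (sub M39 (edMask (U.pls 15 (2 * 7) 0) ed38)) = true := by decide +kernel

theorem gr40 : sub (ones 17199) (U.growI W37 [0, 1, 1, 0, 0, 1, 1, 0, 0, 1, 1, 0, 0, 1] M39) = true := by decide +kernel

theorem loop25 : ThE.D.loop 6230 25 1319 = true := by decide +kernel

theorem okS27 : ThE.D.okS 6230 27 [6109, 6110] [[10, 6, 8, 11, 12, 6, 4, 6, 8, 10, 6, 0, 2, 4, 2, 0, 3, 7, 9, 10, 9], [11, 8, 10, 13, 6, 8, 11, 4, 6, 2, 4, 6, 8, 6, 2, 0, 3, 5, 10, 9, 7, 5, 11]] = true := by decide +kernel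

theorem ed42a : lall (ThE.D.okEd 6230 27 J) ed42 = true := by decide +kernel

theorem ed42b : band (lall (fun e => lall (fun y => Nat.blt y (2 * 7)) e.w) ed42) (sub M43 (edMask (U.pls 15 (2 * 7) 0) ed42)) = true := by decide +kernel

theorem gr44 : sub (ones 17199) (U.growI W41 [0, 1, 1, 0, 0, 1, 1, 0, 0, 1, 1, 0, 0, 1] M43) = true := by decide +kernel

theorem loop27 : ThE.D.loop 6230 27 6115 = true := by decide +kernel

theorem okS28 : ThE.D.okS 6230 28 [6198, 6204] [[10, 6, 8, 10, 2, 4, 6, 8, 11, 4, 6, 8, 4, 6, 4, 3, 1, 5, 7, 9, 7, 5, 12, 10, 9], [13, 11, 6, 8, 2, 4, 6, 4, 6, 8, 10, 10, 2, 4, 6, 5, 9, 7, 5, 3, 10, 9, 7, 5, 3, 10]] = true := by decide +kernel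

theorem ed46a : lall (ThE.D.okEd 6230 28 J) ed46 = true := by decide +kernel

theorem ed46b : band (lall (fun e => lall (fun y => Nat.blt y (2 * 7)) e.w) ed46) (sub M47 (edMask (U.pls 15 (2 * 7) 0) ed46)) = true := by decide +kernel

theorem gr48 : sub (ones 17199) (U.growI W45 [0, 1, 1, 0, 0, 1, 1, 0, 0, 1, 1, 0, 0, 1, 1, 0, 0, 1, 1, 0, 0, 1, 1, 0] M47) = true := by decide +kernel

theorem loop28 : ThE.D.loop 6230 28 6205 = true := by decide +kernel

theorem okS29 : ThE.D.okS 6230 29 [6206, 6207] [[10, 6, 8, 11, 4, 6, 4, 6, 8, 11, 8, 6, 2, 4, 6, 3, 5, 3, 9, 7, 5, 3, 10, 10, 10, 9, 7], [10, 8, 11, 4, 6, 8, 10, 2, 4, 6, 8, 0, 2, 4, 6, 3, 5, 3, 7, 9, 7, 13, 11, 9]] = true := by decide +kernel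

theorem ed50a : lall (ThE.D.okEd 6230 29 J) ed50 = true := by decide +kernel

theorem ed50b : band (lall (fun e => lall (fun y => Nat.blt y (2 * 7)) e.w) ed50) (sub M51 (edMask (U.pls 15 (2 * 7) 0) ed50)) = true := by decide +kernel

theorem gr52 : sub (ones 17199) (U.growI W49 [0, 1, 1, 0, 1, 1, 0, 1, 1, 0, 1, 1, 0] M51) = true := by decide +kernel

theorem loop29 : ThE.D.loop 6230 29 3237 = true := by decide +kernel

theorem rinv : band (Nat.blt 3 6230) ((ThE.D.fc 3).onR fun r => onCons r fun _ r' => onCons r' fun _ => isNil) = true := by decide +kernel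

end Cfsg.Agent.Spor.ThU.V
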