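import Cfsg.Agent.Spor.Prim
import Cfsg.Agent.Spor.ThU.Main
import Cfsg.Agent.Spor.ThU.V.C0
import Cfsg.Agent.Spor.ThD.VB.Main
import Cfsg.Agent.Spor.ThE.Main

set_option autoImplicit false
set_option maxRecDepth 100000000
set_option Elab.async false

namespace Cfsg.Agent.Spor.ThU.V

theorem hU : U.Ok 15 := U.ok_of 15 (show AllP (fun n => Net.okb 15 n = true) [n0, n1, n2, n3, n4, n5, n6] from AllP.cons ok0 (AllP.cons ok1 (AllP.cons ok2 (AllP.cons ok3 (AllP.cons ok4 (AllP.cons ok5 (AllP.cons ok6 (AllP.nil))))))))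

theorem hfP : ∀ j < 7, U.fP [1, 3, 5, 7, 9, 11, 13] j = fP j := by
  intro j hj
  interval_cases j <;> rfl
theorem eG : gsub 7 fP = U.lsub W1 := (gsub_congr hfP).symm.trans (lsub_eq_gsub U [1, 3, 5, 7, 9, 11, 13])
theorem hom : ∃ φ : ThD.P →* Equiv.Perm ℕ, ∀ j < 7, φ (ThD.p j) = fP j :=
  ThD.bound.exists_hom (by norm_num) ThD.cert.pres pres ThD.lbP
noncomputable def φ : ThD.P →* Equiv.Perm ℕ := hom.choose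
theorem hφ : ∀ j < 7, φ (ThD.p j) = fP j := hom.choose_spec
theorem link : U.Link φ (atm 7 ThD.p) (2 * 7) :=
  Tab.Link.of (fun j hj => (hφ j hj).trans (by interval_cases j <;> rfl)) (by decide +kernel)
def LW : List (List Nat) := [[10, 12, 8, 11, 6, 4, 6, 8, 10, 13, 2, 4, 6, 0, 2, 0, 5, 7, 9, 11], [10, 8, 6, 4, 6, 8, 11, 13, 6, 4, 6, 8, 2, 4, 0, 3]]
theorem reach3 : Reach (U.lsub W1) 0 (ones 17199) := (Reach.grow hU (Reach.base _ 0) gr2)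
theorem orb6 : (orbS (U.lsub W1) 0).ncard = 17199 := reach3.ncard hU cl4 sz5
theorem orb6e : orbS (U.lsub W1) 0 = {c | Nat.testBit (ones 17199) c = true} := reach3.orb hU cl4
theorem act : CosetAct (wsub 7 ThD.p LW) φ 17199 :=
  CosetAct.of_count (link.fix hU (W := W7) (by decide +kernel) (hU.fixes fx8))
    (by rw [range_eq_gsub hφ (gsub_lift 7 _), eG]; exact orb6e) ThD.VB.cardL ThD.cardP
section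
variable {R : Type} [CommRing R] {G : Type} [Group G] {Y : DCtx ThE.D R ThD.P G}
  (hu : Y.Upto 6230) (hg : Y.X.Gens ThE.TT (atm 7 ThD.p))
include hu hg

theorem env : Y.Env 6230 7 ThD.p φ 17199 U 15 :=
  ⟨hu, ThE.one, hg, ⟨_, act, hu.okL ThE.one hg okL⟩, hU, link⟩
theorem cos0 : Y.CosOk 7 ThD.p J (0, [[0], [2], [4], [6], [8], [10], [12]], 634023936) :=
  DCtx.cos_zero hu ThE.one hg (gsub_lift 7 _) ThD.cardP okS0 (by decide +kernel)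
theorem hW1 : U.lsub W9 ≤ (Y.stabS (Y.sym 1)).map φ := (env hu hg).hW okS1 (by decide +kernel)
theorem cos1 : Y.CosOk 7 ThD.p J (1, [[11, 8, 11, 6, 4, 6, 8, 10, 2, 4, 6, 0, 2, 4, 6, 1, 9, 10], [13, 11, 8, 2, 4, 6, 0, 2, 4, 6, 8, 10, 8, 4, 6, 5, 7, 9]], 36864) :=
  (env hu hg).cos okS1 ThD.VB.cardS1 (((env hu hg).edges ed10a ed10b).grow hU (hW1 hu hg) gr12)
theorem hW15 : U.lsub W13 ≤ (Y.stabS (Y.sym 15)).map φ := (env hu hg).hW okS15 (by decide +kernel)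
theorem cos15 : Y.CosOk 7 ThD.p J (15, [[11, 8, 11, 2, 4, 6, 8, 10, 4, 6, 2, 4, 6, 8, 6, 5, 7, 10, 10], [11, 13, 8, 10, 0, 2, 4, 6, 8, 0, 2, 4, 6, 4, 2, 0, 3, 10, 9, 7, 5, 3, 1, 10, 9]], 13824) :=
  (env hu hg).cos okS15 ThD.VB.cardS15 (((env hu hg).edges ed14a ed14b).grow hU (hW15 hu hg) gr16)
theorem hW19 : U.lsub W17 ≤ (Y.stabS (Y.sym 19)).map φ := (env hu hg).hW okS19 (by decide +kernel)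
theorem cos19 : Y.CosOk 7 ThD.p J (19, [[8, 6, 4, 6, 8, 2, 4, 6, 4, 6, 8, 10, 8, 10, 2, 5, 7, 5, 9, 7, 5, 3, 10, 9, 7], [10, 12, 8, 4, 6, 4, 6, 2, 4, 6, 8, 10, 6, 4, 6, 3, 5, 3, 7, 9]], 288) :=
  (env hu hg).cos okS19 ThD.VB.cardS19 (((env hu hg).edges ed18a ed18b).grow hU (hW19 hu hg) gr20)
theorem hW21 : U.lsub W21 ≤ (Y.stabS (Y.sym 21)).map φ := (env hu hg).hW okS21 (by decide +kernel)
theorem cos21 : Y.CosOk 7 ThD.p J (21, [[11, 13, 8, 11, 4, 6, 8, 10, 2, 4, 6, 8, 6, 4, 6, 1, 3, 5, 7, 5, 9, 10, 9, 11], [13, 4, 6, 2, 4, 6, 0, 2, 4, 6, 8, 4, 6, 4]], 486) :=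
  (env hu hg).cos okS21 ThD.VB.cardS21 (((env hu hg).edges ed22a ed22b).grow hU (hW21 hu hg) gr24)
theorem hW22 : U.lsub W25 ≤ (Y.stabS (Y.sym 22)).map φ := (env hu hg).hW okS22 (by decide +kernel)
theorem cos22 : Y.CosOk 7 ThD.p J (22, [[10, 2, 4, 6, 8, 10, 10, 0, 2, 4, 6, 8, 4, 6, 2, 0, 5, 3, 10, 9, 7, 5, 3, 7, 5, 10, 12], [12, 0, 2, 4, 6, 8, 11, 6, 4, 6, 2, 4, 6, 8, 6, 5, 7, 5, 12, 11, 9, 7, 10]], 54) :=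
  (env hu hg).cos okS22 ThD.VB.cardS22 (((env hu hg).edges ed26a ed26b).grow hU (hW22 hu hg) gr28)
theorem hW23 : U.lsub W29 ≤ (Y.stabS (Y.sym 23)).map φ := (env hu hg).hW okS23 (by decide +kernel)
theorem cos23 : Y.CosOk 7 ThD.p J (23, [[8, 6, 4, 6, 8, 6, 4, 6, 2, 4, 6, 0, 2, 4, 6, 1], [2, 4, 6, 0, 2, 4, 6, 8, 6, 4, 6, 2, 4, 6, 2, 0, 3, 5, 7]], 6) :=
  (env hu hg).cos okS23 ThD.VB.cardS23 (((((env hu hg).edges ed30a ed30b).lor ((env hu hg).edges ed32a ed32b)).lor ((env hu hg).edges ed34a ed34b)).grow hU (hW23 hu hg) gr36)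
theorem hW25 : U.lsub W37 ≤ (Y.stabS (Y.sym 25)).map φ := (env hu hg).hW okS25 (by decide +kernel)
theorem cos25 : Y.CosOk 7 ThD.p J (25, [[4, 6, 0, 2, 4, 6, 8, 6, 4, 6, 2, 4, 6, 8, 2, 0, 3, 5], [13, 8, 2, 4, 6, 0, 2, 4, 6, 4]], 126) :=
  (env hu hg).cos okS25 ThD.VB.cardS25 (((env hu hg).edges ed38a ed38b).grow hU (hW25 hu hg) gr40)
theorem hW27 : U.lsub W41 ≤ (Y.stabS (Y.sym 27)).map φ := (env hu hg).hW okS27 (by decide +kernel)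
theorem cos27 : Y.CosOk 7 ThD.p J (27, [[10, 6, 8, 11, 12, 6, 4, 6, 8, 10, 6, 0, 2, 4, 2, 0, 3, 7, 9, 10, 9], [11, 8, 10, 13, 6, 8, 11, 4, 6, 2, 4, 6, 8, 6, 2, 0, 3, 5, 10, 9, 7, 5, 11]], 72) :=
  (env hu hg).cos okS27 ThD.VB.cardS27 (((env hu hg).edges ed42a ed42b).grow hU (hW27 hu hg) gr44)
theorem hW28 : U.lsub W45 ≤ (Y.stabS (Y.sym 28)).map φ := (env hu hg).hW okS28 (by decide +kernel)
theorem cos28 : Y.CosOk 7 ThD.p J (28, [[10, 6, 8, 10, 2, 4, 6, 8, 11, 4, 6, 8, 4, 6, 4, 3, 1, 5, 7, 9, 7, 5, 12, 10, 9], [13, 11, 6, 8, 2, 4, 6, 4, 6, 8, 10, 10, 2, 4, 6, 5, 9, 7, 5, 3, 10, 9, 7, 5, 3, 10]], 3528) :=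
  (env hu hg).cos okS28 ThD.VB.cardS28 (((env hu hg).edges ed46a ed46b).grow hU (hW28 hu hg) gr48)
theorem hW29 : U.lsub W49 ≤ (Y.stabS (Y.sym 29)).map φ := (env hu hg).hW okS29 (by decide +kernel)
theorem cos29 : Y.CosOk 7 ThD.p J (29, [[10, 6, 8, 11, 4, 6, 4, 6, 8, 11, 8, 6, 2, 4, 6, 3, 5, 3, 9, 7, 5, 3, 10, 10, 10, 9, 7], [10, 8, 11, 4, 6, 8, 10, 2, 4, 6, 8, 0, 2, 4, 6, 3, 5, 3, 7, 9, 7, 13, 11, 9]], 78) :=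
  (env hu hg).cos okS29 ThD.VB.cardS29 (((env hu hg).edges ed50a ed50b).grow hU (hW29 hu hg) gr52)
theorem done : Y.Done 7 ThD.p CL 634023936 143127000 :=
  ⟨ThD.cardP, by norm_num, show AllP (Y.CosOk 7 ThD.p J) [(0, [[0], [2], [4], [6], [8], [10], [12]], 634023936), (1, [[11, 8, 11, 6, 4, 6, 8, 10, 2, 4, 6, 0, 2, 4, 6, 1, 9, 10], [13, 11, 8, 2, 4, 6, 0, 2, 4, 6, 8, 10, 8, 4, 6, 5, 7, 9]], 36864), (15, [[11, 8, 11, 2, 4, 6, 8, 10, 4, 6, 2, 4, 6, 8, 6, 5, 7, 10, 10], [11, 13, 8, 10, 0, 2, 4, 6, 8, 0, 2, 4, 6, 4, 2, 0, 3, 10, 9, 7, 5, 3, 1, 10, 9]], 13824), (19, [[8, 6, 4, 6, 8, 2, 4, 6, 4, 6, 8, 10, 8, 10, 2, 5, 7, 5, 9, 7, 5, 3, 10, 9, 7], [10, 12, 8, 4, 6, 4, 6, 2, 4, 6, 8, 10, 6, 4, 6, 3, 5, 3, 7, 9]], 288), (21, [[11, 13, 8, 11, 4, 6, 8, 10, 2, 4, 6, 8, 6, 4, 6, 1, 3, 5, 7,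 5, 9, 10, 9, 11], [13, 4, 6, 2, 4, 6, 0, 2, 4, 6, 8, 4, 6, 4]], 486), (22, [[10, 2, 4, 6, 8, 10, 10, 0, 2, 4, 6, 8, 4, 6, 2, 0, 5, 3, 10, 9, 7, 5, 3, 7, 5, 10, 12], [12, 0, 2, 4, 6, 8, 11, 6, 4, 6, 2, 4, 6, 8, 6, 5, 7, 5, 12, 11, 9, 7, 10]], 54), (23, [[8, 6, 4, 6, 8, 6, 4, 6, 2, 4, 6, 0, 2, 4, 6, 1], [2, 4, 6, 0, 2, 4, 6, 8, 6, 4, 6, 2, 4, 6, 2, 0, 3, 5, 7]], 6), (25, [[4, 6, 0, 2, 4, 6, 8, 6, 4, 6, 2, 4, 6, 8, 2, 0, 3, 5], [13, 8, 2, 4, 6, 0, 2, 4, 6, 4]], 126), (27, [[10, 6, 8, 11, 12, 6, 4, 6, 8, 10, 6, 0, 2, 4, 2, 0, 3, 7, 9, 10, 9], [11, 8, 10, 13, 6, 8, 11, 4, 6, 2, 4, 6, 8, 6, 2, 0, 3, 5, 10, 9, 7, 5, 11]], 72), (28, [[10, 6, 8, 10, 2, 4, 6, 8, 11, 4, 6, 8, 4, 6, 4, 3, 1, 5, 7, 9, 7, 5, 12, 10, 9], [13, 11, 6, 8, 2, 4, 6, 4, 6, 8, 10, 10, 2, 4, 6, 5, 9, 7, 5, 3, 10, 9,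 7, 5, 3, 10]], 3528), (29, [[10, 6, 8, 11, 4, 6, 4, 6, 8, 11, 8, 6, 2, 4, 6, 3, 5, 3, 9, 7, 5, 3, 10, 10, 10, 9, 7], [10, 8, 11, 4, 6, 8, 10, 2, 4, 6, 8, 0, 2, 4, 6, 3, 5, 3, 7, 9, 7, 13, 11, 9]], 78)] from AllP.cons (cos0 hu hg) (AllP.cons (cos1 hu hg) (AllP.cons (cos15 hu hg) (AllP.cons (cos19 hu hg) (AllP.cons (cos21 hu hg) (AllP.cons (cos22 hu hg) (AllP.cons (cos23 hu hg) (AllP.cons (cos25 hu hg) (AllP.cons (cos27 hu hg) (AllP.cons (cos28 hu hg) (AllP.cons (cos29 hu hg) (AllP.nil))))))))))), hu.rinv rinv, by decide +kernel⟩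
omit hg in
theorem loops : AllP Y.Loop CL :=
  show AllP Y.Loop [(0, [[0], [2], [4], [6], [8], [10], [12]], 634023936), (1, [[11, 8, 11, 6, 4, 6, 8, 10, 2, 4, 6, 0, 2, 4, 6, 1, 9, 10], [13, 11, 8, 2, 4, 6, 0, 2, 4, 6, 8, 10, 8, 4, 6, 5, 7, 9]], 36864), (15, [[11, 8, 11, 2, 4, 6, 8, 10, 4, 6, 2, 4, 6, 8, 6, 5, 7, 10, 10], [11, 13, 8, 10, 0, 2, 4, 6, 8, 0, 2, 4, 6, 4, 2, 0, 3, 10, 9, 7, 5, 3, 1, 10, 9]], 13824), (19, [[8, 6, 4, 6, 8, 2, 4, 6, 4, 6, 8, 10, 8, 10, 2, 5, 7, 5, 9, 7, 5, 3, 10, 9, 7], [10, 12, 8, 4, 6, 4, 6, 2, 4, 6, 8, 10, 6, 4, 6, 3, 5, 3, 7, 9]], 288), (21, [[11, 13, 8, 11, 4, 6, 8, 10, 2, 4, 6, 8, 6, 4, 6, 1, 3, 5, 7, 5, 9, 10, 9, 11], [13, 4, 6, 2, 4, 6, 0, 2, 4, 6, 8, 4, 6, 4]], 486), (22, [[10, 2, 4, 6, 8, 10, 10, 0, 2, 4, 6, 8, 4, 6, 2, 0, 5, 3, 10, 9, 7, 5, 3,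 7, 5, 10, 12], [12, 0, 2, 4, 6, 8, 11, 6, 4, 6, 2, 4, 6, 8, 6, 5, 7, 5, 12, 11, 9, 7, 10]], 54), (23, [[8, 6, 4, 6, 8, 6, 4, 6, 2, 4, 6, 0, 2, 4, 6, 1], [2, 4, 6, 0, 2, 4, 6, 8, 6, 4, 6, 2, 4, 6, 2, 0, 3, 5, 7]], 6), (25, [[4, 6, 0, 2, 4, 6, 8, 6, 4, 6, 2, 4, 6, 8, 2, 0, 3, 5], [13, 8, 2, 4, 6, 0, 2, 4, 6, 4]], 126), (27, [[10, 6, 8, 11, 12, 6, 4, 6, 8, 10, 6, 0, 2, 4, 2, 0, 3, 7, 9, 10, 9], [11, 8, 10, 13, 6, 8, 11, 4, 6, 2, 4, 6, 8, 6, 2, 0, 3, 5, 10, 9, 7, 5, 11]], 72), (28, [[10, 6, 8, 10, 2, 4, 6, 8, 11, 4, 6, 8, 4, 6, 4, 3, 1, 5, 7, 9, 7, 5, 12, 10, 9], [13, 11, 6, 8, 2, 4, 6, 4, 6, 8, 10, 10, 2, 4, 6, 5, 9, 7, 5, 3, 10, 9, 7, 5, 3, 10]], 3528), (29, [[10, 6, 8, 11, 4, 6, 4, 6, 8, 11, 8, 6, 2, 4, 6, 3, 5, 3, 9, 7, 5, 3, 10, 10, 10, 9, 7], [10, 8, 11, 4, 6, 8, 10, 2, 4, 6,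 8, 0, 2, 4, 6, 3, 5, 3, 7, 9, 7, 13, 11, 9]], 78)] from AllP.cons (Or.inl rfl) (AllP.cons (Or.inr (hu.loop loop1)) (AllP.cons (Or.inr (hu.loop loop15)) (AllP.cons (Or.inr (hu.loop loop19)) (AllP.cons (Or.inr (hu.loop loop21)) (AllP.cons (Or.inr (hu.loop loop22)) (AllP.cons (Or.inr (hu.loop loop23)) (AllP.cons (Or.inr (hu.loop loop25)) (AllP.cons (Or.inr (hu.loop loop27)) (AllP.cons (Or.inr (hu.loop loop28)) (AllP.cons (Or.inr (hu.loop loop29)) (AllP.nil)))))))))))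
end

end Cfsg.Agent.Spor.ThU.V
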